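import Cfsg.Agent.Lib.W0.Char
import Cfsg.Agent.Lib.W3.Base

/-!
# Simple groups with abelian Sylow 2-subgroups of rank at most two
-/

set_option autoImplicit false

namespace Cfsg.Agent.W0

open Subgroup Cfsg.Agent.OO Cfsg.Agent.Blk Cfsg.Agent.R1

universe u

variable {G : Type u} [Group G] [Finite G] {S V : Subgroup G} {a b c d e n x : G}

theorem five (hV : ♯V ≤ 4) (ha : a ∈ V) (hb : b ∈ V) (hc : c ∈ V) (hd : d ∈ V) (a1 : a ≠ 1)
    (b1 : b ≠ 1) (c1 : c ≠ 1) (d1 : d ≠ 1) : a = b ∨ a = c ∨ a = d ∨ b = c ∨ b = d ∨ c = d := by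
  classical
  by_contra! h
  obtain ⟨h1, h2, h3, h4, h5, h6⟩ := h
  have := Finset.card_le_card (s := {1, a, b, c, d}) (t := elts (V : Set G))
    (by simp [Finset.insert_subset_iff, *])
  rw [card_elts, Finset.card_insert_of_notMem (by simp [a1.symm, b1.symm, c1.symm, d1.symm]),
    Finset.card_insert_of_notMem (by simp [*]), Finset.card_insert_of_notMem (by simp [*]),
    Finset.card_pair h6] at this
  omega

theorem piElt_iff : PiElt {2} x ↔ ∃ k, x ^ 2 ^ k = 1 := by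
  rw [PiElt, Coprime.isPiNum_singleton_iff Nat.prime_two (orderOf_pos x).ne']
  refine ⟨fun ⟨k, hk⟩ => ⟨k, hk ▸ pow_orderOf_eq_one x⟩, fun ⟨k, hk⟩ => ?_⟩
  obtain ⟨j, -, e⟩ := (Nat.dvd_prime_pow Nat.prime_two).1 (orderOf_dvd_of_pow_eq_one hk)
  exact ⟨j, e⟩

theorem mem_cent_of_sq (hS : Syl 2 S ⊤) (ha : Ab S) (hn : n ∈ 𝐍(S))
    (h : ∀ v ∈ S, v * v = 1 → n * n ∈ 𝐂[v]) : n ∈ 𝐂(S) := by
  obtain ⟨u, s, hu, hs, -, h1, h2, rfl⟩ := exists_decomp Nat.prime_two n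
  refine mul_mem (ha.le_cent (hS.mem_of_mem_norm (mem_top u) (zpowers_le.2 hn h1) (piElt_iff.2 hu)))
    (coprime_abelian_faithful_Ohm1 (zpowers_le.2 (zpowers_le.2 hn h2)) (coprime_of_isPGroup hS.isPGroup
      (piGrp_zpowers.2 ((isPiNum_compl_singleton Nat.prime_two).2 hs))) ha (fun v hv h3 => ?_)
      (mem_zpowers s))
  obtain ⟨k, hk⟩ := piElt_iff.1 (hS.piGrp.piElt hv)
  have h4 : orderOf v = 2 := (Nat.prime_dvd_prime_iff_eq h3 Nat.prime_two).1
    (h3.dvd_of_dvd_pow (orderOf_dvd_of_pow_eq_one hk))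
  have h5 := h v hv ((pow_two v).symm.trans (orderOf_dvd_iff_pow_eq_one.1 h4.dvd))
  refine le_cent1_iff.1 (zpowers_le.2 (zpowers_le.2 (?_ : s ^ 2 ∈ 𝐂[v]) (mem_zpowers_pow_iff.2
    ((Nat.prime_two.coprime_iff_not_dvd).2 hs))))
  obtain ⟨i, hi⟩ := mem_zpowers_iff.1 h2
  rw [← hi, ← zpow_natCast, ← zpow_mul, mul_comm, zpow_mul, zpow_natCast, pow_two]
  exact zpow_mem h5 i

theorem mem_cent_of_fix (hS : Syl 2 S ⊤) (ha : Ab S) (hV : ♯(Ohm 2 S) ≤ 4) (hn : n ∈ 𝐍(S))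
    (hx : x ∈ S) (h1 : x ≠ 1) (h : n * x * n⁻¹ = x) : n ∈ 𝐂(S) := by
  obtain ⟨a, h2, a1⟩ := exists_mem_ne_one (Ohm_ne_bot (hS.isPGroup.to_le (zpowers_le.2 hx))
    (zpowers_ne_bot.2 h1))
  have h3 : n * a * n⁻¹ = a := mem_cent1_iff_conj.1
    (cent1_le_of_mem_zpowers (Ohm_le _ _ h2) (mem_cent1_iff_conj.2 h))
  have h4 := norm_le_norm_Ohm 2 S hn
  refine mem_cent_of_sq hS ha hn fun v hv h5 => mem_cent1_iff_conj.2 ?_
  rw [show n * n * v * (n * n)⁻¹ = n * (n * v * n⁻¹) * n⁻¹ by group]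
  by_cases v1 : v = 1
  · simp [v1]
  have h6 := mem_Ohm hv ((pow_two v).trans h5)
  have h7 : ∀ v, a = n * v * n⁻¹ → v = a := fun v e => by simpa using (h3.trans e).symm
  rcases five hV (Ohm_mono 2 (zpowers_le.2 hx) h2) h6 (conj_mem_of_norm h4 h6)
    (conj_mem_of_norm h4 (conj_mem_of_norm h4 h6)) a1 v1 (by simpa) (by simpa) with
    e | e | e | e | e | e
  · rw [← e, h3, h3]
  · rw [h7 v e, h3, h3]
  · rw [h7 v (h7 _ e).symm, h3, h3]
  · rw [← e, ← e]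
  · exact e.symm
  · rw [← e]; simpa using e.symm

theorem w0 : R1.W0.{u} := fun G _ _ hs hn h2 hr h8 => by
  obtain ⟨S, hS⟩ := exists_syl 2 (⊤ : Subgroup G)
  have ha : Ab S := h2 S hS.isPGroup
  have hp : der (⊤ : Subgroup G) = ⊤ :=
    (hs.eq_bot_or_eq_top_of_normal _ (normalIn_top.1 (der_normal ⊤))).resolve_left fun e' =>
      hn ⟨⟨fun x y => ab_iff.1 (ab_iff_der.2 e') x (mem_top x) y (mem_top y)⟩⟩
  obtain ⟨j, hj⟩ := (Ohm_isPGroup_of_ab 2 ha).exists_card_eq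
  have h1 : 8 ∣ ♯S := by
    obtain ⟨Q, hQ⟩ := Sylow.exists_subgroup_card_pow_prime 2 (n := 3) h8
    simpa [hQ] using hS.card_dvd le_top (isPGroup_of_card_prime_pow hQ)
  have hV : ♯(Ohm 2 S) ≤ 4 := by
    have := hr _ (Ohm_abelem 2 ha)
    rw [hj] at this ⊢
    have h3 := (Nat.pow_lt_pow_iff_right (a := 2) (m := 3) one_lt_two).1 this
    exact Nat.pow_le_pow_right (j := 2) two_pos (by omega)
  obtain ⟨t, ht, t1⟩ := exists_mem_ne_one (Ohm_ne_bot_of_dvd Nat.prime_two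
    ((by norm_num : 2 ∣ 8).trans h1))
  obtain ⟨htS, t2⟩ := (mem_Ohm_iff_of_ab ha).1 ht
  obtain ⟨r, hr1, hr2⟩ := SetLike.not_le_iff_exists.1 fun e : ⊤ ⊓ 𝐍(S) ≤ 𝐂[t] =>
    W3.not_mem_der hS ha htS t1 e (hp.ge (mem_top t))
  replace hr1 : r ∈ 𝐍(S) := hr1.2
  have k1 : ∀ x ∈ S, r * x * r⁻¹ = x → x = 1 := fun x hx e => by_contra fun x1 =>
    hr2 (cent_le_cent1 htS (mem_cent_of_fix hS ha hV hr1 hx x1 e))
  have k2 : r * (r * t * r⁻¹) * r⁻¹ ≠ t := fun e => hr2 (cent_le_cent1 htS (mem_cent_of_sq hS ha hr1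
    fun v hv _ => cent_le_cent1 hv (mem_cent_of_fix hS ha hV (mul_mem hr1 hr1) htS t1
      (.trans (by group) e))))
  have k3 : r * t * r⁻¹ ≠ t := fun e => t1 (k1 t htS e)
  have k4 : ∀ n ∈ 𝐍(S), ∀ m ∈ 𝐍(S), m * t * m⁻¹ = n * t * n⁻¹ → ∀ x ∈ S,
      n * x * n⁻¹ = m * x * m⁻¹ := fun n hn m hm e x hx => by
    have := mem_cent1_iff_conj.1 (cent_le_cent1 hx (mem_cent_of_fix hS ha hV
      (mul_mem (inv_mem hm) hn) htS t1 (by
        calc _ = m⁻¹ * (n * t * n⁻¹) * m := by group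
          _ = _ := by rw [← e]; group)))
    calc _ = m * (m⁻¹ * n * x * (m⁻¹ * n)⁻¹) * m⁻¹ := by group
      _ = _ := by rw [this]
  have k5 : ∀ n ∈ 𝐍(S), (∀ x ∈ S, n * x * n⁻¹ = x) ∨ (∀ x ∈ S, n * x * n⁻¹ = r * x * r⁻¹) ∨
      ∀ x ∈ S, n * x * n⁻¹ = r * (r * x * r⁻¹) * r⁻¹ := fun n hn => by
    have h4 := norm_le_norm_Ohm 2 S hr1
    rcases five hV ht (conj_mem_of_norm h4 ht) (conj_mem_of_norm h4 (conj_mem_of_norm h4 ht))
      (conj_mem_of_norm (norm_le_norm_Ohm 2 S hn) ht) t1 (by simpa) (by simpa) (by simpa) with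
      e | e | e | e | e | e
    · exact absurd e.symm k3
    · exact absurd e.symm k2
    · exact .inl fun x hx => by simpa using k4 n hn 1 (one_mem _) (by simpa using e) x hx
    · exact absurd (by simpa using e.symm) k3
    · exact .inr (.inl (k4 n hn r hr1 e))
    · exact .inr (.inr fun x hx => (k4 n hn (r * r) (mul_mem hr1 hr1) (by rw [← e]; group) x hx).trans
        (by group))
  have hH : Hyp S r := by
    refine ⟨ha, fun x hx => piElt_iff.1 (hS.piGrp.piElt hx), fun u hu => ?_, hr1, k1, fun x hx => ?_,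
      fun x hx g hg => ?_, fun x hx x1 => ?_⟩
    · obtain ⟨g, -, e⟩ := hS.exists_conj_le le_top (isPGroup_zpowers_iff.2 (piElt_iff.2 hu))
      exact ⟨g, e (conj_mem_conj (mem_zpowers u))⟩
    · have h3 : ∀ x, r * r * r * x * (r * r * r)⁻¹ = r * (r * (r * x * r⁻¹) * r⁻¹) * r⁻¹ :=
        fun x => by group
      rcases k5 _ (mul_mem (mul_mem hr1 hr1) hr1) with e | e | e
      · exact h3 x ▸ e x hx
      · exact absurd (by simpa using (h3 t).symm.trans (e t htS)) k2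
      · exact absurd (by simpa using (h3 t).symm.trans (e t htS)) k3
    · obtain ⟨n, hn, e⟩ := W3.fusion hS ha hx (mem_top g) hg
      exact e ▸ (k5 n hn.2).imp (· x hx) fun h => h.imp (· x hx) (· x hx)
    · have h3 := Burnside_normal_complement (hS.mono (le_inf le_top (ha.le_cent.trans
        (cent_le_cent1 hx))) le_top) fun n hn =>
          mem_cent_of_fix hS ha hV hn.2 hx x1 (mem_cent1_iff_conj.1 hn.1.2)
      refine ⟨_, h3.normal, not_dvd_Op' _, h3.card, fun g => ⟨fun hg => ?_, fun hg => ⟨h3.left_le hg,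
        (isPiNum_compl_singleton Nat.prime_two).1 ((Op'_piGrp _ _).piElt hg)⟩⟩⟩
      exact (h3.hall_left (Op'_piGrp _ _) (by simpa using hS.piGrp)).mem_of_normal h3.normal.2 hg.1
        ((isPiNum_compl_singleton Nat.prime_two).2 hg.2)
  obtain ⟨x, hx, hxV⟩ := SetLike.not_le_iff_exists.1 fun e : S ≤ Ohm 2 S => by
    have := (Nat.le_of_dvd Nat.card_pos h1).trans ((card_le_of_le e).trans hV)
    omega
  obtain ⟨l, hl, h3, h4⟩ := exists_lin_char_cfker (Ohm_normal 2 S) ((ab_iff_der.1 ha).le.trans bot_le) hxV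
  refine hH.false_of hp ?_ hl.isIrr (fun e => h4 ((mem_cfker_lin hl).2 (e ▸ cf1E hx)))
    (fun y hy e => (mem_cfker_lin hl).1 (h3 (mem_Ohm hy ((pow_two y).trans e)))) htS t1
    ((pow_two t).symm.trans t2) fun u hu e => ?_
  · by_contra h5
    have h6 : ♯S = 8 := by obtain ⟨i, hi⟩ := h1; have := Nat.card_pos (α := S); omega
    classical
    have := Fintype.ofFinite S
    have := Fact.mk Nat.prime_three
    let f : Function.End S := fun y => ⟨r * y * r⁻¹, conj_mem_of_norm hr1 y.2⟩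
    have h7 := Equiv.Perm.card_fixedPoints_modEq (f := f) (p := 3) (n := 1)
      (funext fun y => Subtype.ext (hH.cube y y.2))
    rw [(Fintype.card_eq_one_iff (α := f.fixedPoints)).2 ⟨⟨1, Subtype.ext (by simp [f])⟩, fun y => Subtype.ext (Subtype.ext
      (k1 _ y.1.2 (congrArg Subtype.val y.2)))⟩, ← Nat.card_eq_fintype_card, h6] at h7
    exact absurd h7 (by decide)
  · have h5 : zpowers t ≤ 𝐍(zpowers u) := zpowers_le.2 (mem_normalizer_fintype fun y hy => by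
      obtain ⟨i, rfl⟩ := mem_zpowers_iff.1 hy
      rw [← conj_zpow, e]; exact zpow_mem (inv_mem (mem_zpowers u)) i)
    have h6 := ab_iff.1 (h2 _ (isPGroup_sup (hS.isPGroup.to_le (zpowers_le.2 htS))
      (isPGroup_zpowers_iff.2 (piElt_iff.2 hu)) (.inl h5))) t (mem_sup_left (mem_zpowers t)) u
      (mem_sup_right (mem_zpowers u))
    rw [h6, mul_inv_cancel_right] at e
    exact mul_eq_one_iff_eq_inv.2 e

end Cfsg.Agent.W0
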