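import Cfsg.Agent.Lib.R1.BS8a

/-!
# Exceptional characters for an abelian Sylow 2-subgroup with automizer of order three
-/

set_option autoImplicit false

namespace Cfsg.Agent.W0

open Subgroup Cfsg.Agent.OO Cfsg.Agent.Blk Cfsg.Agent.R1
open scoped ComplexConjugate

universe u

variable {G : Type u} [Group G] [Finite G] {H C O S : Subgroup G}
  {φ ψ χ α β η a b c l m : G → ℂ} {g r t x y : G}

/-- the principal block projection is an average if the regular elements form a subgroup -/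
theorem prB_avg {p : ℕ} [Fact p.Prime] (hO : O ⊴ C) (hp : ¬ p ∣ ♯O)
    (hR : ∀ g, g ∈ Reg p C ↔ g ∈ O) (hφ : φ ∈ CF C) (g : G) :
    (♯O : ℂ) * prB p C φ g = ∑ y ∈ elts (O : Set G), φ (y * g) := by
  have := Fintype.ofFinite G
  have key : ∀ χ, IsIrr C χ →
      (♯O : ℂ) * prB p C χ g = ∑ y ∈ elts (O : Set G), χ (y * g) := fun χ hχ => by
    by_cases h : O ≤ cfker C χ
    · have h1 : χ ∈ B0 p C := mem_B0.2 ⟨hχ, by
        rw [show Reg p C = O from Set.ext hR,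
          Finset.sum_congr rfl fun y hy => cfker1 (h (mem_elts.1 hy)), sum_elts_const, nsmul_eq_mul]
        exact mul_ne_zero (cardC_ne_zero O) (irr1_neq0 hχ)⟩
      rw [prB_of_mem h1, Finset.sum_congr rfl fun y hy => cfkerMl (h (mem_elts.1 hy)) g,
        sum_elts_const, nsmul_eq_mul]
    · have h3 : ∀ F : G → ℂ, ∑ y ∈ elts (C : Set G), cf1 O y * F y = ∑ y ∈ elts (O : Set G), F y :=
        fun F => by
          rw [← sum_elts_subset hO.1 fun y _ hy => by rw [cf1_of_not_mem hy, zero_mul]]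
          exact Finset.sum_congr rfl fun y hy => by rw [cf1E (mem_elts.1 hy), one_mul]
      rw [prB_of_not_mem hχ fun h' => h (le_cfker_of_mem_B0 h' hO hp), ← h3 fun y => χ (y * g),
        sum_mul_irr hχ (cf1_mem_CF_of_normal hO), om, h3, hχ.sum_eq_zero_of_not_cfker hO h]
      simp
  rw [cfun_sum_cfdot hφ]
  simp only [map_sum, map_smul, Finset.sum_apply, Pi.smul_apply, smul_eq_mul]
  rw [Finset.sum_comm, Finset.mul_sum]
  exact Finset.sum_congr rfl fun χ hχ => by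
    rw [mul_left_comm, key χ (mem_Irr.1 hχ), Finset.mul_sum]

/-- a family of at least five virtual characters of norm three with inner products two -/
theorem common {Y : Finset (G → ℂ)} (hZ : ∀ η ∈ Y, η ∈ ZIrr H) (h3 : ∀ η ∈ Y, ⟪η, η⟫[H] = 3)
    (h2 : ∀ η ∈ Y, ∀ η' ∈ Y, η ≠ η' → ⟪η, η'⟫[H] = 2) (h5 : 5 ≤ Y.card) (h0 : η ∈ Y) :
    ∃ a b c, IsDirr H a ∧ IsDirr H b ∧ IsDirr H c ∧ η = a + b + c ∧ ⟪η, c⟫[H] = 1 ∧
      ∀ ξ ∈ Y, ⟪ξ, a⟫[H] = 1 ∧ ⟪ξ, b⟫[H] = 1 := by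
  classical
  have hn : cfnorm H η = 3 := cfnorm_eq_of_cfdot (by simpa using h3 η h0)
  obtain ⟨A, hA, hd, hc, e⟩ := vchar_small_norm (hZ η h0) (by rw [hn]; norm_num)
  rw [hn] at hc
  replace hc : A.card = 3 := by exact_mod_cast hc
  have k0 : ∀ a ∈ A, ⟪η, a⟫[H] = 1 := fun a ha => by
    rw [e, hA.cfdot_sum_subset le_rfl ha, if_pos ha]
  have k1 : ∀ ξ ∈ Y.erase η, ∃ c ∈ A, ⟪ξ, c⟫[H] = 0 ∧ ∀ a ∈ A, a ≠ c → ⟪ξ, a⟫[H] = 1 := by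
    intro ξ hξ
    obtain ⟨h1, hξ⟩ := Finset.mem_erase.1 hξ
    have h4 := h2 ξ hξ η h0 h1
    have h6 := hA.bessel ξ
    rw [cfnorm_eq_of_cfdot (r := 3) (by simpa using h3 ξ hξ)] at h6
    rw [e, cfdot_sumr] at h4
    obtain ⟨a, b, c, h7, h8, h9, rfl⟩ := Finset.card_eq_three.1 hc
    rw [Finset.sum_insert (by simp [*]), Finset.sum_pair h9] at h4 h6
    obtain ⟨i, hi⟩ := Cint_cfdot_vchar (hZ ξ hξ) (hd a (by simp)).vchar
    obtain ⟨j, hj⟩ := Cint_cfdot_vchar (hZ ξ hξ) (hd b (by simp)).vchar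
    obtain ⟨k, hk⟩ := Cint_cfdot_vchar (hZ ξ hξ) (hd c (by simp)).vchar
    rw [hi, hj, hk] at h4 h6
    simp only [Complex.norm_intCast, sq_abs] at h6
    replace h4 : i + (j + k) = 2 := by exact_mod_cast h4
    replace h6 : i ^ 2 + (j ^ 2 + k ^ 2) ≤ 3 := by exact_mod_cast h6
    have : i ≤ 1 := by nlinarith [sq_nonneg j, sq_nonneg k]
    have : j ≤ 1 := by nlinarith [sq_nonneg i, sq_nonneg k]
    have : k ≤ 1 := by nlinarith [sq_nonneg i, sq_nonneg j]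
    have h : (i = 0 ∧ j = 1 ∧ k = 1) ∨ (i = 1 ∧ j = 0 ∧ k = 1) ∨ (i = 1 ∧ j = 1 ∧ k = 0) := by omega
    rcases h with ⟨rfl, rfl, rfl⟩ | ⟨rfl, rfl, rfl⟩ | ⟨rfl, rfl, rfl⟩
    · exact ⟨a, by simp, by simp [hi], by simp [hj, hk]⟩
    · exact ⟨b, by simp, by simp [hj], by simp [hi, hk]⟩
    · exact ⟨c, by simp, by simp [hk], by simp [hi, hj]⟩
  choose! f hf hf0 hf1 using k1
  have k2 : ∀ ξ ∈ Y.erase η, ξ - η + f ξ ∈ ZIrr H := fun ξ hξ =>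
    add_mem (sub_mem (hZ ξ (Finset.mem_of_mem_erase hξ)) (hZ η h0)) (hd _ (hf ξ hξ)).vchar
  have k3 : ∀ ξ ∈ Y.erase η, ∀ ζ ∈ Y.erase η, ⟪ξ - η + f ξ, ζ - η + f ζ⟫[H] =
      ⟪ξ, ζ⟫[H] - 3 + ⟪ξ, f ζ⟫[H] + ⟪ζ, f ξ⟫[H] + ⟪f ξ, f ζ⟫[H] := fun ξ hξ ζ hζ => by
    obtain ⟨h1, hξ'⟩ := Finset.mem_erase.1 hξ
    obtain ⟨h4, hζ'⟩ := Finset.mem_erase.1 hζ
    simp only [cfdotDl, cfdotDr, cfdotBl, cfdotBr]
    rw [cfdot_vchar_comm (hd _ (hf ξ hξ)).vchar (hZ ζ hζ'),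
      cfdot_vchar_comm (hd _ (hf ξ hξ)).vchar (hZ η h0), k0 _ (hf ξ hξ), k0 _ (hf ζ hζ),
      h2 ξ hξ' η h0 h1, h2 η h0 ζ hζ' h4.symm, h3 η h0]
    ring
  have k4 : ∀ ξ ∈ Y.erase η, IsDirr H (ξ - η + f ξ) := fun ξ hξ =>
    vchar_norm1P (k2 ξ hξ) (cfnorm_eq_one_iff.2 (by
      rw [k3 ξ hξ ξ hξ, h3 ξ (Finset.mem_of_mem_erase hξ), hf0 ξ hξ, hA.1 _ (hf ξ hξ)]; ring))
  have k5 : ∀ ξ ∈ Y.erase η, ∀ ζ ∈ Y.erase η, f ξ ≠ f ζ → ξ - η + f ξ = ζ - η + f ζ :=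
    fun ξ hξ ζ hζ h => (cfdot_dirr_eq1 (k4 ξ hξ) (k4 ζ hζ)).1 (by
      rw [k3 ξ hξ ζ hζ, h2 ξ (Finset.mem_of_mem_erase hξ) ζ (Finset.mem_of_mem_erase hζ)
        fun e => h (e ▸ rfl), hf1 ξ hξ _ (hf ζ hζ) h.symm, hf1 ζ hζ _ (hf ξ hξ) h,
        hA.2 _ (hf ξ hξ) _ (hf ζ hζ) h]; ring)
  obtain ⟨ξ, hξ, ζ, hζ, h6, h7⟩ := Finset.exists_ne_map_eq_of_card_lt_of_maps_to
    (s := Y.erase η) (t := A) (by rw [Finset.card_erase_of_mem h0]; omega) hf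
  have k6 : ∀ κ ∈ Y.erase η, f κ = f ξ := fun κ hκ => by_contra fun h => by
    have h8 := k3 ξ hξ ζ hζ
    rw [← k5 κ hκ ξ hξ h, ← k5 κ hκ ζ hζ (h7 ▸ h), (k4 κ hκ).cfdot_self, h2 ξ
      (Finset.mem_of_mem_erase hξ) ζ (Finset.mem_of_mem_erase hζ) h6, ← h7, hf0 ξ hξ,
      hA.1 _ (hf ξ hξ), h7, hf0 ζ hζ] at h8
    norm_num at h8
  obtain ⟨a, b, h8, h9⟩ := Finset.card_eq_two.1
    (show (A.erase (f ξ)).card = 2 by rw [Finset.card_erase_of_mem (hf ξ hξ), hc])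
  obtain ⟨ha, ha'⟩ := Finset.mem_erase.1 (h9 ▸ by simp : a ∈ A.erase (f ξ))
  obtain ⟨hb, hb'⟩ := Finset.mem_erase.1 (h9 ▸ by simp : b ∈ A.erase (f ξ))
  refine ⟨a, b, f ξ, hd a ha', hd b hb', hd _ (hf ξ hξ), ?_, k0 _ (hf ξ hξ), fun κ hκ => ?_⟩
  · rw [e, ← Finset.sum_erase_add _ _ (hf ξ hξ), h9, Finset.sum_pair h8]
  by_cases h : κ = η
  · exact h ▸ ⟨k0 a ha', k0 b hb'⟩
  have hκ' := Finset.mem_erase.2 ⟨h, hκ⟩
  exact ⟨hf1 κ hκ' a ha' (k6 κ hκ' ▸ ha), hf1 κ hκ' b hb' (k6 κ hκ' ▸ hb)⟩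

theorem num {q i j k : ℤ} (hq : 16 ≤ q) (hi : i * q + 1 ≠ 1) (hj : j * q + 1 ≠ 1)
    (h : 1 + 1 / ((i * q + 1 : ℤ) : ℂ) + 1 / ((j * q + 1 : ℤ) : ℂ) + 9 / ((k * q - 3 : ℤ) : ℂ) = 0) :
    False := by
  have k1 : ∀ i : ℤ, i * q + 1 ≠ 1 → -(1 / 15 : ℚ) ≤ 1 / ((i * q + 1 : ℤ) : ℚ) ∧
      1 / ((i * q + 1 : ℤ) : ℚ) ≤ 1 / 15 := fun i hi => by
    have h0 : i ≠ 0 := fun e => hi (by simp [e])
    rcases lt_or_gt_of_ne h0 with h1 | h1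
    · have h2 : ((i * q + 1 : ℤ) : ℚ) ≤ -15 := by exact_mod_cast (by nlinarith : i * q + 1 ≤ -15)
      refine ⟨?_, (one_div_nonpos.2 (by linarith)).trans (by norm_num)⟩
      rw [le_div_iff_of_neg (by linarith)]; linarith
    · have h2 : (15 : ℚ) ≤ ((i * q + 1 : ℤ) : ℚ) := by exact_mod_cast (by nlinarith : 15 ≤ i * q + 1)
      exact ⟨le_trans (by norm_num) (one_div_nonneg.2 (by linarith)),
        one_div_le_one_div_of_le (by norm_num) h2⟩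
  replace h : 1 + 1 / ((i * q + 1 : ℤ) : ℚ) + 1 / ((j * q + 1 : ℤ) : ℚ) +
    9 / ((k * q - 3 : ℤ) : ℚ) = 0 := by exact_mod_cast h
  obtain ⟨h1, h2⟩ := k1 i hi
  obtain ⟨h3, h4⟩ := k1 j hj
  rcases lt_trichotomy k 0 with h5 | rfl | h5
  · have h6 : ((k * q - 3 : ℤ) : ℚ) ≤ -13 := by exact_mod_cast (by nlinarith : k * q - 3 ≤ -13)
    have : -(9 / 13 : ℚ) ≤ 9 / ((k * q - 3 : ℤ) : ℚ) := by
      rw [le_div_iff_of_neg (by linarith)]; linarith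
    linarith
  · norm_num at h h1 h2 h3 h4; linarith
  · have h6 : (0 : ℚ) ≤ ((k * q - 3 : ℤ) : ℚ) := by exact_mod_cast (by nlinarith : 0 ≤ k * q - 3)
    have := div_nonneg (by norm_num : (0 : ℚ) ≤ 9) h6
    linarith

omit [Finite G] in
theorem conj_sq (h : x * x = 1) (g : G) : g * x * g⁻¹ * (g * x * g⁻¹) = 1 := by
  rw [conj_mul, h, mul_one, mul_inv_cancel]

/-- `S` is an abelian Sylow 2-subgroup, and fusion in `S` is given by `r` of order three -/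
structure Hyp (S : Subgroup G) (r : G) : Prop where
  ab : Ab S
  two : ∀ x ∈ S, ∃ k, x ^ 2 ^ k = 1
  syl : ∀ u : G, (∃ k, u ^ 2 ^ k = 1) → ∃ g, g * u * g⁻¹ ∈ S
  norm : r ∈ 𝐍(S)
  fpf : ∀ x ∈ S, r * x * r⁻¹ = x → x = 1
  cube : ∀ x ∈ S, r * (r * (r * x * r⁻¹) * r⁻¹) * r⁻¹ = x
  fus : ∀ x ∈ S, ∀ g, g * x * g⁻¹ ∈ S → g * x * g⁻¹ = x ∨ g * x * g⁻¹ = r * x * r⁻¹ ∨
    g * x * g⁻¹ = r * (r * x * r⁻¹) * r⁻¹
  cent : ∀ x ∈ S, x ≠ 1 → ∃ O, O ⊴ ⊤ ⊓ 𝐂[x] ∧ ¬ 2 ∣ ♯O ∧ ♯O * ♯S = ♯(⊤ ⊓ 𝐂[x]) ∧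
    ∀ g, g ∈ Reg 2 (⊤ ⊓ 𝐂[x]) ↔ g ∈ O

/-- the lift of a class function of `S` -/
noncomputable def T (S : Subgroup G) : (G → ℂ) →ₗ[ℂ] (G → ℂ) := prB 2 ⊤ ∘ₗ cfInd ⊤ S

/-- the orbit sum -/
def N (r : G) (α : G → ℂ) : G → ℂ := α + cfConjg r⁻¹ α + cfConjg r⁻¹ (cfConjg r⁻¹ α)

theorem T_def (α : G → ℂ) : T S α = prB 2 ⊤ (cfInd ⊤ S α) := rfl

omit [Finite G] in
theorem N_apply (α : G → ℂ) (x : G) :
    N r α x = α x + α (r * x * r⁻¹) + α (r * (r * x * r⁻¹) * r⁻¹) := by simp [N, cfConjg]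

theorem prB_T (α : G → ℂ) : prB 2 ⊤ (T S α) = T S α := prB_prB _

theorem T_mem (α : G → ℂ) : T S α ∈ CF ⊤ := prB_mem_CF _

theorem cfdot_T (hα : α ∈ CF S) (hψ : prB 2 ⊤ ψ = ψ) : ⟪T S α, ψ⟫[⊤] = ⟪α, ψ⟫[S] := by
  rw [T_def, cfdot_prB, hψ, cfdot_cfInd_left le_top hα.1 (hψ ▸ prB_mem_CF ψ)]

namespace Hyp

variable (h : Hyp S r)
include h

theorem mem (hx : x ∈ S) : r * x * r⁻¹ ∈ S := conj_mem_of_norm h.norm hx

omit [Finite G] in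
theorem eq_one (hx : x ∈ S) (ho : ¬ 2 ∣ orderOf x) : x = 1 := by
  obtain ⟨k, hk⟩ := h.two x hx
  exact orderOf_eq_one_iff.1 (Nat.eq_one_of_dvd_coprimes
    ((Nat.prime_two.coprime_iff_not_dvd.2 ho).pow_left k) (orderOf_dvd_of_pow_eq_one hk) dvd_rfl)

theorem T_reg (hα : α ∈ CF S) (h1 : α 1 = 0) (hg : ¬ 2 ∣ orderOf g) : T S α g = 0 :=
  prB_eq_zero_of_reg (fun y hy => cfInd_eq_zero _ fun k _ => by
    by_cases e : k⁻¹ * y * k ∈ S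
    · rw [h.eq_one e (by
        rw [← orderOf_conj k, show k * (k⁻¹ * y * k) * k⁻¹ = y by group]; exact hy.2), h1]
    · exact cfun0 hα e) ⟨mem_top g, hg⟩

theorem T_mul (α : G → ℂ) (hx : x ∈ S) (h1 : x ≠ 1) (hy : y ∈ 𝐂[x]) (ho : ¬ 2 ∣ orderOf y) :
    T S α (x * y) = T S α x := by
  obtain ⟨O, h2, h3, -, h4⟩ := h.cent x hx h1
  obtain ⟨k, hk⟩ := h.two x hx
  simpa [T_def] using prB_mul_eq (mem_top x) hk one_mem_Reg h2 h3 ((h4 y).1 ⟨⟨mem_top y, hy⟩, ho⟩)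
    (cfInd ⊤ S α)

theorem T_apply (hα : α ∈ CF S) (h0 : α 1 = 0) (hx : x ∈ S) : T S α x = N r α x := by
  classical
  by_cases h1 : x = 1
  · rw [h1, h.T_reg hα h0 (by simp), N_apply]; simp [h0]
  obtain ⟨O, h2, h3, h4, h5⟩ := h.cent x hx h1
  obtain ⟨k, hk⟩ := h.two x hx
  have h6 := prB_cent (mem_top x) hk one_mem_Reg (cfInd_mem_CF ⊤ S α)
  rw [mul_one, ← prB_cfRes] at h6
  have hxC : x ∈ ⊤ ⊓ 𝐂[x] := ⟨mem_top x, mem_cent1_self x⟩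
  refine mul_left_cancel₀ (cardC_ne_zero O) ?_
  rw [T_def, ← h6, prB_avg h2 h3 h5 (cfRes_mem_CF le_top (cfInd_mem_CF ⊤ S α)),
    Finset.sum_eq_single 1 (fun y hy hy1 => ?_) fun e => absurd (mem_elts.2 O.one_mem) e, one_mul,
    cfResE _ hxC, cfIndE' _ _ (mem_top x)]
  · have k1 : ∀ g z : G, g * x * g⁻¹ = z → ∀ c : ℂ, ∑ i ∈ elts ((⊤ : Subgroup G) : Set G),
        (if i * x * i⁻¹ = z then c else 0) = ♯O * ♯S * c := fun g z e c => by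
      rw [← Finset.sum_filter, Finset.sum_const, card_filter_conj_eq, if_pos ⟨g, mem_top g, e⟩,
        ← e, cent1_conj, top_inf_eq, card_conj, ← top_inf_eq 𝐂[x], ← h4]
      simp
    have k2 : r * x * r⁻¹ ≠ x := fun e => h1 (h.fpf x hx e)
    have k3 : r * (r * x * r⁻¹) * r⁻¹ ≠ r * x * r⁻¹ := fun e => k2 (by simpa using e)
    have k4 : r * (r * x * r⁻¹) * r⁻¹ ≠ x := fun e => k2 (by simpa [e] using h.cube x hx)
    rw [Finset.sum_congr rfl (g := fun i => (if i * x * i⁻¹ = x then α x else 0) +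
      (if i * x * i⁻¹ = r * x * r⁻¹ then α (r * x * r⁻¹) else 0) +
      (if i * x * i⁻¹ = r * (r * x * r⁻¹) * r⁻¹ then α (r * (r * x * r⁻¹) * r⁻¹) else 0))
      fun i _ => ?_, Finset.sum_add_distrib, Finset.sum_add_distrib, k1 1 _ (by simp), k1 r _ rfl,
      k1 (r * r) _ (by group), N_apply]
    · have := cardC_ne_zero S
      field_simp
    by_cases e : i * x * i⁻¹ ∈ S
    · rcases h.fus x hx i e with e | e | e <;> simp only [e, k2, k3, k4, k2.symm, k3.symm, k4.symm] <;>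
        simp
    · have k5 : ∀ z ∈ S, i * x * i⁻¹ ≠ z := fun z hz e' => e (e' ▸ hz)
      simp only [cfun0 hα e, k5 _ hx, k5 _ (h.mem hx), k5 _ (h.mem (h.mem hx))]
      simp
  · replace hy := mem_elts.1 hy
    rw [cfResE _ (mul_mem (h2.1 hy) hxC)]
    refine cfInd_eq_zero _ fun g _ => cfun0 hα fun e => hy1 ?_
    obtain ⟨j, hj⟩ := h.two _ e
    have hc : Commute y x := mem_cent1.1 (h2.1 hy).2
    have k1 : (y * x) ^ 2 ^ j = 1 := by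
      rwa [show g⁻¹ * (y * x) * g = g⁻¹ * (y * x) * g⁻¹⁻¹ by simp, conj_pow, conj_eq_one_iff] at hj
    have k2 : y ^ 2 ^ (j + k) = 1 := by
      have : (y * x) ^ 2 ^ (j + k) = 1 := by rw [pow_add, pow_mul, k1, one_pow]
      rwa [hc.mul_pow, pow_add, mul_comm (2 ^ j), pow_mul x, hk, one_pow, mul_one, mul_comm,
        ← pow_add] at this
    exact orderOf_eq_one_iff.1 (Nat.eq_one_of_dvd_coprimes
      ((Nat.prime_two.coprime_iff_not_dvd.2 ((h5 y).2 hy).2).pow_left _)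
      (orderOf_dvd_of_pow_eq_one k2) dvd_rfl)

theorem cfdot_TT (hα : α ∈ CF S) (hβ : β ∈ CF S) (h0 : β 1 = 0) :
    ⟪T S α, T S β⟫[⊤] = ⟪α, N r β⟫[S] := by
  rw [cfdot_T hα (prB_T β)]
  exact cfdot_congr (fun _ _ => rfl) fun x hx => h.T_apply hβ h0 hx

theorem conj_ne (hl : IsIrr S l) (h1 : l ≠ cf1 S) : cfConjg r⁻¹ l ≠ l := fun e => h1 <| by
  have h2 := irr_abelian_lin h.ab hl
  have h3 : ∀ x ∈ S, r * x * r⁻¹ * x⁻¹ ∈ S := fun x hx => mul_mem (h.mem hx) (inv_mem hx)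
  have h4 : Function.Injective fun x : S => (⟨r * x * r⁻¹ * (x : G)⁻¹, h3 x x.2⟩ : S) := fun x y e => by
    have h5 : r * x * r⁻¹ * (x : G)⁻¹ = r * y * r⁻¹ * (y : G)⁻¹ := congrArg Subtype.val e
    have h6 := h.fpf ((y : G)⁻¹ * x) (mul_mem (inv_mem y.2) x.2) (by
      calc _ = (r * y * r⁻¹)⁻¹ * (r * x * r⁻¹ * (x : G)⁻¹) * x := by group
        _ = _ := by rw [h5]; group)
    exact Subtype.ext (inv_mul_eq_one.1 h6).symm
  refine cfun_ext hl.mem_CF (cf1_mem_CF S) fun y hy => ?_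
  obtain ⟨x, hx⟩ := Finite.surjective_of_injective h4 ⟨y, hy⟩
  have h5 := congrFun e x
  rw [cfConjgE, inv_inv] at h5
  rw [cf1E hy, ← show r * x * r⁻¹ * (x : G)⁻¹ = y from congrArg Subtype.val hx,
    lin_charM h2 (h.mem x.2) (inv_mem x.2), h5, ← lin_charM h2 x.2 (inv_mem x.2), mul_inv_cancel, h2.one]

theorem conj3 (hα : α ∈ CF S) : cfConjg r⁻¹ (cfConjg r⁻¹ (cfConjg r⁻¹ α)) = α :=
  have := inv_mem h.norm
  cfun_ext (cfConjg_mem_CF this (cfConjg_mem_CF this (cfConjg_mem_CF this hα))) hα fun x hx => by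
    simp only [cfConjgE, inv_inv, h.cube x hx]

open Classical in
theorem cfdot_N (hm : IsIrr S m) (hl : IsIrr S l) (h1 : l ≠ cf1 S) : ⟪m, N r l⟫[S] =
    if m ∈ ({l, cfConjg r⁻¹ l, cfConjg r⁻¹ (cfConjg r⁻¹ l)} : Finset (G → ℂ)) then 1 else 0 := by
  have h2 := hl.cfConjg (inv_mem h.norm)
  have h3 := h2.cfConjg (inv_mem h.norm)
  have k1 := h.conj_ne hl h1
  have k2 : cfConjg r⁻¹ (cfConjg r⁻¹ l) ≠ cfConjg r⁻¹ l := fun e => k1 (cfConjg_inj _ e)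
  have k3 : cfConjg r⁻¹ (cfConjg r⁻¹ l) ≠ l := fun e => k1 (by simpa [e] using h.conj3 hl.mem_CF)
  rw [N, cfdotDr, cfdotDr, cfdot_irr hm hl, cfdot_irr hm h2, cfdot_irr hm h3]
  by_cases e1 : m = l
  · simp [e1, k1.symm, k3.symm]
  by_cases e2 : m = cfConjg r⁻¹ l
  · simp [e2, k1, k2.symm]
  simp [e1, e2]

theorem cfdot_one_N (hl : IsIrr S l) (h1 : l ≠ cf1 S) : ⟪cf1 S, N r l⟫[S] = 0 := by
  have h2 := inv_mem h.norm
  have h3 := cfdot_symm0 (hl.cfdot_cf1 h1)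
  have h4 : ∀ φ, ⟪cf1 S, cfConjg r⁻¹ φ⟫[S] = ⟪cf1 S, φ⟫[S] := fun φ => by
    rw [← cfdot_cfConjg h2 _ φ, cfConjg_cf1 h2]
  rw [N, cfdotDr, cfdotDr, h4, h4, h4, h3]; simp

/-- the nonprincipal part of the lift of `1 - m` -/
noncomputable def _root_.Cfsg.Agent.W0.eta (S : Subgroup G) (m : G → ℂ) : G → ℂ :=
  T S (cf1 S - m) - cf1 ⊤

omit h in
theorem sub_mem' (hm : IsIrr S m) : cf1 S - m ∈ CF S := sub_mem (cf1_mem_CF S) hm.mem_CF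

theorem sub_one' (hm : IsIrr S m) : (cf1 S - m) 1 = 0 := by
  rw [Pi.sub_apply, cf1E S.one_mem, (irr_abelian_lin h.ab hm).one, sub_self]

omit h in
theorem eta_vchar (hm : IsIrr S m) : eta S m ∈ ZIrr ⊤ :=
  sub_mem (prB_vchar le_top (cfInd_vchar le_top (sub_mem (cf1_vchar S) (irr_vchar hm)))) (cf1_vchar ⊤)

omit h in
theorem T_one (hm : IsIrr S m) (h1 : m ≠ cf1 S) : ⟪T S (cf1 S - m), cf1 ⊤⟫[⊤] = 1 := by
  rw [cfdot_T (sub_mem' hm) (prB_of_mem cf1_mem_B0), ← cfdot_cfRes_right, cfRes_cf1 le_top, cfdotBl,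
    cfdot_cf1, hm.cfdot_cf1 h1, sub_zero]

theorem cfdot_eta (hm : IsIrr S m) (hm1 : m ≠ cf1 S) (hl : IsIrr S l) (hl1 : l ≠ cf1 S) :
    ⟪eta S m, eta S l⟫[⊤] = 2 + ⟪m, N r l⟫[S] := by
  have h2 := inv_mem h.norm
  have h3 : N r (cf1 S - l) = cf1 S + cf1 S + cf1 S - N r l := by
    simp only [N, cfConjg_sub, cfConjg_cf1 h2]; abel
  rw [eta, eta, cfdotBl, cfdotBr, cfdotBr, h.cfdot_TT (sub_mem' hm) (sub_mem' hl) (h.sub_one' hl),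
    T_one hm hm1, cfdotC (cf1 ⊤), T_one hl hl1, cfdot_cf1, h3]
  simp only [cfdotBl, cfdotBr, cfdotDr, cfdot_cf1, hm.cfdot_cf1 hm1, h.cfdot_one_N hl hl1, map_one]
  ring

/-- the values on `S` of the constituents -/
theorem apply_eq (hl : IsIrr S l) (hl1 : l ≠ cf1 S) (ha : IsDirr ⊤ a) (h1 : ⟪eta S l, a⟫[⊤] = 1)
    (hβ : β ∈ ZIrr S) (h2 : ⟪β, cf1 S⟫[S] = 0)
    (h3 : ∀ m, IsIrr S m → m ≠ cf1 S → ⟪eta S m, a⟫[⊤] = ⟪m, β⟫[S]) :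
    a ≠ cf1 ⊤ ∧ ∃ i : ℤ, ∀ x ∈ S, a x = i * cfReg S x - β x := by
  have k0 : ⟪eta S l, cf1 ⊤⟫[⊤] = 0 := by rw [eta, cfdotBl, T_one hl hl1, cfdot_cf1, sub_self]
  have k1 : ⟪cf1 ⊤, a⟫[⊤] = 0 := cfdot_dirr_eq_zero (isIrr_cf1 ⊤).isDirr ha
    (fun e => by rw [← e, k0] at h1; exact zero_ne_one h1)
    fun e => by rw [e, cfdotNr, h1] at k0; simp at k0
  have k2 : prB 2 ⊤ a = a := by
    obtain ⟨ε, -, χ, hχ, rfl⟩ := ha.exists_sign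
    rw [map_smul, prB_of_mem (by_contra fun e => ?_)]
    rw [eta, cfdotBl, k1, cfdotZr, T_def, cfdot_prB_of_not_mem _ hχ e] at h1
    simp at h1
  have k3 := cfRes_vchar le_top ha.vchar (H := S)
  obtain ⟨i, hi⟩ := Cint_cfdot_vchar (cf1_vchar S) k3
  refine ⟨fun e => by rw [e, cfdot_cf1] at k1; exact one_ne_zero k1, i, fun x hx => ?_⟩
  rw [← cfResE a hx, cfun_ext_irr (vchar_mem_CF k3) (sub_mem (Submodule.smul_mem _ (i : ℂ)
    (cfReg_mem_CF S)) (vchar_mem_CF hβ)) fun m hm => ?_]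
  · simp
  rw [cfdotBl, cfdotZl, cfdotC (cfReg S), cfdot_cfReg, (irr_abelian_lin h.ab hm).one, map_one, mul_one,
    cfdot_vchar_comm k3 (irr_vchar hm)]
  by_cases e : m = cf1 S
  · rw [e, hi, h2, sub_zero]
  · rw [cfdot_vchar_comm hβ (irr_vchar hm), ← h3 m hm e, eta, cfdotBl, k1, cfdot_T (sub_mem' hm) k2,
      cfdotBl, ← hi, cfdot_cfRes_right, cfdot_cfRes_right]
    ring

theorem false_of (hp : der (⊤ : Subgroup G) = ⊤) (h16 : 16 ≤ ♯S) (hl : IsIrr S l) (hl1 : l ≠ cf1 S)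
    (hV : ∀ x ∈ S, x * x = 1 → l x = 1) (ht : t ∈ S) (t1 : t ≠ 1) (t2 : t * t = 1)
    (hinv : ∀ u : G, (∃ k, u ^ 2 ^ k = 1) → t * u * t⁻¹ = u⁻¹ → u * u = 1) : False := by
  classical
  have hr := inv_mem h.norm
  have k0 : ∀ m ∈ (Irr S).erase (cf1 S), IsIrr S m ∧ m ≠ cf1 S := fun m hm =>
    ⟨mem_Irr.1 (Finset.mem_of_mem_erase hm), Finset.ne_of_mem_erase hm⟩
  have k1 : ∀ m, IsIrr S m → m ≠ cf1 S → ⟪eta S m, eta S m⟫[⊤] = 3 := fun m hm h1 => by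
    rw [h.cfdot_eta hm h1 hm h1, h.cfdot_N hm hm h1, if_pos (by simp)]; norm_num
  obtain ⟨a, b, c, ha, hb, hc, e, h1, h2⟩ := common (H := ⊤) (η := eta S l)
    (Y := ((Irr S).erase (cf1 S)).image (eta S))
    (by simpa only [Finset.forall_mem_image] using fun m hm => eta_vchar (k0 m hm).1)
    (by simpa only [Finset.forall_mem_image] using fun m hm => k1 m (k0 m hm).1 (k0 m hm).2)
    (by
      simp only [Finset.forall_mem_image]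
      intro m hm n hn h1
      obtain ⟨hm, hm1⟩ := k0 m hm
      obtain ⟨hn, hn1⟩ := k0 n hn
      have h2 := h.cfdot_eta hm hm1 hn hn1
      rw [h.cfdot_N hm hn hn1] at h2
      split_ifs at h2 with h3
      · refine absurd (sub_eq_zero.1 ((cfdot_self_eq0 (vchar_mem_CF
          (sub_mem (eta_vchar hm) (eta_vchar hn)))).1 ?_)) h1
        rw [cfdotBl, cfdotBr, cfdotBr, k1 m hm hm1, k1 n hn hn1,
          cfdot_vchar_comm (eta_vchar hn) (eta_vchar hm), h2]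
        norm_num
      · simpa using h2)
    (by
      have h1 := Finset.card_le_mul_card_image (f := eta S) ((Irr S).erase (cf1 S)) 3 (by
        simp only [Finset.forall_mem_image]
        intro n hn
        obtain ⟨hn, hn1⟩ := k0 n hn
        refine (Finset.card_le_card (t := {n, cfConjg r⁻¹ n, cfConjg r⁻¹ (cfConjg r⁻¹ n)})
          fun m hm => by_contra fun h3 => ?_).trans Finset.card_le_three
        obtain ⟨hm, h4⟩ := Finset.mem_filter.1 hm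
        have h2 := h.cfdot_eta (k0 m hm).1 (k0 m hm).2 hn hn1
        rw [h.cfdot_N (k0 m hm).1 hn hn1, if_neg h3, h4, k1 n hn hn1] at h2
        norm_num at h2)
      rw [Finset.card_erase_of_mem (cf1_mem_Irr S), card_Irr_abelian h.ab] at h1
      omega)
    (Finset.mem_image_of_mem _ (Finset.mem_erase.2 ⟨hl1, mem_Irr.2 hl⟩))
  replace h2 : ∀ m, IsIrr S m → m ≠ cf1 S → ⟪eta S m, a⟫[⊤] = 1 ∧ ⟪eta S m, b⟫[⊤] = 1 :=
    fun m hm h3 => h2 _ (Finset.mem_image_of_mem _ (Finset.mem_erase.2 ⟨h3, mem_Irr.2 hm⟩))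
  have k2 : ∀ a, IsDirr ⊤ a → (∀ m, IsIrr S m → m ≠ cf1 S → ⟪eta S m, a⟫[⊤] = 1) →
      a t = 1 ∧ ∃ i : ℤ, i * ♯S + 1 ≠ 1 ∧ a 1 = (i * ♯S + 1 : ℤ) := fun a ha h3 => by
    obtain ⟨h4, i, hi⟩ := h.apply_eq hl hl1 ha (h3 l hl hl1)
      (sub_mem (char_vchar (isChar_cfReg S)) (cf1_vchar S))
      (by rw [cfdotBl, cfdotC, cfdot_cfReg, cf1E S.one_mem, cfdot_cf1]; simp) fun m hm h5 => by
        rw [h3 m hm h5, cfdotBr, cfdot_cfReg, (irr_abelian_lin h.ab hm).one, hm.cfdot_cf1 h5, sub_zero]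
    have h5 : a 1 = ((i - 1) * ♯S + 1 : ℤ) := by
      rw [hi 1 S.one_mem, Pi.sub_apply, cfReg_one, cf1E S.one_mem]; push_cast; ring
    refine ⟨by rw [hi t ht, Pi.sub_apply, cfReg_of_ne _ t1, cf1E ht]; simp, i - 1, fun e => h4 ?_, h5⟩
    rw [e, Int.cast_one] at h5
    have h6 := ha.isIrr (by simp [h5])
    exact h6.le_cfker_iff.1 (hp.ge.trans (lin_char_der1 (h6.isLinChar h5)))
  have hN : ∀ x ∈ S, x * x = 1 → N r l x = 3 := fun x hx h3 => by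
    rw [N_apply, hV x hx h3, hV _ (h.mem hx) (conj_sq h3 r), hV _ (h.mem (h.mem hx))
      (conj_sq (conj_sq h3 r) r)]
    norm_num
  obtain ⟨a1, i, i1, a2⟩ := k2 a ha fun m hm h3 => (h2 m hm h3).1
  obtain ⟨b1, j, j1, b2⟩ := k2 b hb fun m hm h3 => (h2 m hm h3).2
  obtain ⟨-, k, hk⟩ := h.apply_eq hl hl1 hc h1 (β := N r l) (add_mem (add_mem (irr_vchar hl)
    (irr_vchar (hl.cfConjg hr))) (irr_vchar ((hl.cfConjg hr).cfConjg hr)))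
    (cfdot_symm0 (h.cfdot_one_N hl hl1)) fun m hm h3 => by
      have h4 := h.cfdot_eta hm h3 hl hl1
      rw [e, cfdotDr, cfdotDr, (h2 m hm h3).1, (h2 m hm h3).2] at h4
      linear_combination h4
  have c1 : c t = -3 := by rw [hk t ht, cfReg_of_ne _ t1, hN t ht t2]; simp
  have c2 : c 1 = (k * ♯S - 3 : ℤ) := by
    rw [hk 1 S.one_mem, cfReg_one, hN 1 S.one_mem (mul_one 1)]; simp
  have k3 : ∀ g : G, T S (cf1 S - l) (g * t * g⁻¹ * t) = 0 := fun g => by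
    obtain ⟨u, s, hu, hs, h3, h4, -, h5⟩ := exists_decomp Nat.prime_two (g * t * g⁻¹ * t)
    by_cases h6 : u = 1
    · exact h.T_reg (sub_mem' hl) (h.sub_one' hl) (by rwa [h5, h6, one_mul])
    have h7 : t * u * t⁻¹ = u⁻¹ := by
      obtain ⟨n, rfl⟩ := mem_zpowers_iff.1 h4
      rw [← conj_zpow, ← inv_zpow]
      congr 1
      have h8 : t⁻¹ = t := inv_eq_of_mul_eq_one_right t2
      simp only [mul_inv_rev, inv_inv, h8, mul_assoc, t2, mul_one]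
    obtain ⟨y, hy⟩ := h.syl u hu
    have h8 := conj_sq (hinv u hu h7) y
    rw [h5, ← cfunJ (T_mem _) (mem_top y), ← conj_mul, h.T_mul _ hy (by simpa using h6)
      (mem_cent1.2 (by rw [conj_mul, conj_mul, h3.eq])) (by rwa [orderOf_conj]),
      h.T_apply (sub_mem' hl) (h.sub_one' hl) hy, N_apply]
    simp only [Pi.sub_apply, cf1E hy, cf1E (h.mem hy), cf1E (h.mem (h.mem hy)), hV _ hy h8,
      hV _ (h.mem hy) (conj_sq h8 r), hV _ (h.mem (h.mem hy)) (conj_sq (conj_sq h8 r) r), sub_self,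
      add_zero]
  have k4 : ∑ g ∈ elts ((⊤ : Subgroup G) : Set G), (1 + a (g * t * g⁻¹ * t) + b (g * t * g⁻¹ * t) +
      c (g * t * g⁻¹ * t)) = 0 := Finset.sum_eq_zero fun g _ => by
    have h3 := congrFun e (g * t * g⁻¹ * t)
    simp only [eta, Pi.sub_apply _ (cf1 ⊤), k3, cf1E (mem_top _), Pi.add_apply] at h3
    linear_combination -h3
  have k5 : ∀ a, IsDirr ⊤ a → ∑ g ∈ elts ((⊤ : Subgroup G) : Set G), a (g * t * g⁻¹ * t) =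
      ♯(⊤ : Subgroup G) * (a t * a t / a 1) := fun a ha => by
    rw [← mul_div_assoc, eq_div_iff ha.one_ne_zero, mul_comm, sum_conj_mul_dirr ha (mem_top t), mul_assoc]
  simp only [Finset.sum_add_distrib, k5 a ha, k5 b hb, k5 c hc, sum_elts_const, nsmul_one, a1, b1, c1,
    a2, b2, c2] at k4
  refine num (k := k) (by exact_mod_cast h16) i1 j1
    (mul_left_cancel₀ (cardC_ne_zero (⊤ : Subgroup G)) ?_)
  linear_combination k4

end Hyp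

end Cfsg.Agent.W0
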